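import Groth.Agent.PerfDualLib.CohPC
import Groth.Agent.PerfDualLib.Props
import Groth.Agent.PerfLib.PCohSummand
import Groth.Agent.PerfLib.Coherent

/-!
# Pseudo-coherence and coherent cohomology on Noetherian schemes
-/

set_option autoImplicit false
set_option backward.isDefEq.respectTransparency false
set_option backward.isDefEq.respectTransparency.types false

universe u

open CategoryTheory CategoryTheory.Limits AlgebraicGeometry Pretriangulated HomologicalComplex
open DerivedCategory.TStructure Groth.Agent.PerfLib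

attribute [local instance] HasDerivedCategory.standard

namespace Groth.Agent.PerfNoethLib

variable {X : Scheme.{u}}

/-- A pseudo-coherent object has, near every point, cohomology of finite type which vanishes in high
degrees. -/
theorem exists_nbhd [IsLocallyNoetherian X] {K : DCoh.D X} {m : ℤ}
    (hK : DCoh.IsPseudoCoherentD m K) (x : X) :
    ∃ (U : X.Opens) (b : ℤ), x ∈ U ∧ CohB1.IsFT ((DCoh.HD K m).restrict U.ι) ∧
      ∀ i, b < i → IsZero ((DCoh.HD K i).restrict U.ι) := by
  obtain ⟨U, hx, hU⟩ := hK x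
  obtain ⟨E, α, ⟨⟨a, b, hv⟩, hf⟩, hα₁, hα₂⟩ := hU _ ⟨DerivedCategory.Q.objObjPreimageIso K⟩
  haveI : IsLocallyNoetherian (U : Scheme.{u}) := isLocallyNoetherian_of_isOpenImmersion U.ι
  let β : DCoh.toD _ E ⟶ (resD U.ι).obj K :=
    α ≫ (resDQIso U.ι _).inv ≫ (resD U.ι).map (DerivedCategory.Q.objObjPreimageIso K).hom
  let q : ∀ i, E.homology i ⟶ (DCoh.HD K i).restrict U.ι := fun i =>
    ((DerivedCategory.homologyFunctorFactors _ i).app E).inv ≫
      (DerivedCategory.homologyFunctor _ i).map β ≫ (resHDIso U.ι K i).hom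
  have hq₁ : ∀ i, m < i → IsIso (q i) := fun i hi => by
    haveI := hα₁ i hi
    haveI : IsIso ((DerivedCategory.homologyFunctor _ i).map β) := by
      simp only [β, Functor.map_comp]
      infer_instance
    infer_instance
  have hq₂ : Epi (q m) := by
    haveI := hα₂
    haveI : Epi ((DerivedCategory.homologyFunctor _ m).map β) := by
      simp only [β, Functor.map_comp]
      infer_instance
    infer_instance
  refine ⟨U, max b m, hx, ?_, fun i hi => ?_⟩
  · haveI := hq₂
    exact @QCohLib.isFT_of_epi (U : Scheme.{u}) _ _ (q m) hq₂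
      (isCoh_homology E (fun k => isCoh_of_isFinLocFree (hf k)) m).2
  · haveI := hq₁ i (by omega)
    exact ((exactAt_iff_isZero_homology E i).1 (ExactAt.of_isZero (hv i (Or.inr (by omega))))).of_iso
      (asIso (q i)).symm

theorem coherent_and_bounded [IsNoetherian X] {K : DCoh.D X} (hq : DCoh.IsQCohD K) {m : ℤ}
    (hK : DCoh.IsPseudoCoherentD m K) :
    (∀ i, m ≤ i → Coh.IsCoh (DCoh.HD K i)) ∧ ∃ b : ℤ, K.IsLE b := by
  refine ⟨fun i hi => ?_, ?_⟩
  · choose U b hxU hft hz using exists_nbhd (isPC_mono hi hK)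
    exact isCoh_of_cover _ U (eq_top_iff.2 fun p _ => TopologicalSpace.Opens.mem_iSup.2 ⟨p, hxU p⟩)
      fun p =>
        haveI := hq i
        ⟨PerfDualLib.isQCoh_restrict (DCoh.HD K i) (U p), hft p⟩
  · choose U b hxU hft hz using exists_nbhd hK
    obtain ⟨t, ht⟩ := isCompact_univ.elim_finite_subcover (fun p : X => (U p : Set X))
      (fun p => (U p).isOpen) fun p _ => Set.mem_iUnion.2 ⟨p, hxU p⟩
    obtain ⟨b₀, hb₀⟩ : ∃ b₀, ∀ p ∈ t, b p ≤ b₀ := (t.finite_toSet.image b).bddAbove.imp
      fun b₀ h p hp => h ⟨p, hp, rfl⟩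
    refine ⟨b₀, (DerivedCategory.isLE_iff K b₀).2 fun i hi => isZero_of_cover fun x => ?_⟩
    obtain ⟨p, hpt, hp⟩ := Set.mem_iUnion₂.1 (ht (Set.mem_univ x))
    exact ⟨U p, hp, hz p i (by have := hb₀ p hpt; omega)⟩

theorem isPC_of_coherent [IsLocallyNoetherian X] {K : DCoh.D X} {m : ℤ}
    (h : ∀ i, m ≤ i → Coh.IsCoh (DCoh.HD K i)) {b : ℤ} [K.IsLE b] :
    DCoh.IsPseudoCoherentD m K := by
  refine isPC_obj₂ _ (DerivedCategory.TStructure.t.triangleLEGT_distinguished (m - 1) K) m ?_ ?_
  · refine isPC_of_isZero_above fun i hi => ?_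
    exact DerivedCategory.isZero_of_isLE ((DerivedCategory.TStructure.t.truncLE (m - 1)).obj K)
      (m - 1) i (by omega)
  · change DCoh.IsPseudoCoherentD m ((DerivedCategory.TStructure.t.truncGT (m - 1)).obj K)
    have hH : ∀ i, m ≤ i → IsIso ((DerivedCategory.homologyFunctor X.Modules i).map
        ((DerivedCategory.TStructure.t.truncGTπ (m - 1)).app K)) := fun i hi =>
      DerLib.Devissage.isIso_homology_truncGTπ K (m - 1) i (by omega)
    haveI : ((DerivedCategory.TStructure.t.truncGT (m - 1)).obj K).IsGE m :=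
      DerivedCategory.TStructure.t.isGE_truncGT_obj _ (m - 1) m (by omega)
    haveI : ((DerivedCategory.TStructure.t.truncGT (m - 1)).obj K).IsLE (max b m) := by
      rw [DerivedCategory.isLE_iff]
      intro i hi
      haveI := hH i (by omega)
      exact (DerivedCategory.isZero_of_isLE K b i (by omega)).of_iso
        (asIso ((DerivedCategory.homologyFunctor X.Modules i).map
          ((DerivedCategory.TStructure.t.truncGTπ (m - 1)).app K))).symm
    refine PerfDualLib.isPC_of_isCohD _ (max b m) m fun i => ?_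
    by_cases hi : m ≤ i
    · haveI := hH i hi
      exact QCohLib.isCoh_of_iso (asIso ((DerivedCategory.homologyFunctor X.Modules i).map
        ((DerivedCategory.TStructure.t.truncGTπ (m - 1)).app K))) (h i hi)
    · exact DevissLib.isCoh_of_isZero (DerivedCategory.isZero_of_isGE _ m i (by omega))

end Groth.Agent.PerfNoethLib
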